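import Groth.Agent.MultNilpLib.Core
import Groth.Agent.PowEtCentralLib.Transport

/-!
Subgroups of multiplicative type of connected nilpotent algebraic groups are central.
-/

set_option autoImplicit false
set_option backward.isDefEq.respectTransparency false

noncomputable section

universe u

open CategoryTheory CategoryTheory.Limits MonoidalCategory CartesianMonoidalCategory AlgebraicGeometry CoactBr
open scoped MonObj TensorProduct

namespace Groth.Agent.MultNilp

open Groth.Agent.FreeAct (DA)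
open Groth.Agent.CentLocus (CentAt centAt_bc_iff comm_of_inf)

attribute [local instance] CoactBr.braidedAlgSpecOf

/-- Nilpotency is inherited by base changes. -/
theorem lcs_bc {S T : Scheme.{u}} (κ : T ⟶ S) {G : Over S} [GrpObj G] {n : ℕ}
    (hn : ∀ X : Over S, (⊤ : Subgroup (X ⟶ G)).lowerCentralSeries n = ⊥) (X : Over T) :
    (⊤ : Subgroup (X ⟶ Red.bc κ G)).lowerCentralSeries n = ⊥ := by
  let φ : ((Over.map κ).obj X ⟶ G) →* (X ⟶ Red.bc κ G) := (PowEtCentralLib.adjEquiv (G := G) κ X).toMonoidHom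
  have h := Subgroup.map_lowerCentralSeries (⊤ : Subgroup ((Over.map κ).obj X ⟶ G)) φ n
  rw [hn, Subgroup.map_bot, Subgroup.map_top_of_surjective φ (PowEtCentralLib.adjEquiv (G := G) κ X).surjective] at h
  exact h.symm

set_option maxHeartbeats 1000000 in
/-- Over an algebraically closed point a split piece of the subgroup is central. -/
theorem centAt_geom {S : Scheme.{u}} {G H : Over S} [GrpObj G] [GrpObj H] [LocallyOfFiniteType G.hom]
    (u : H ⟶ G) [IsMonHom u] {K : Type u} [Field K] [IsAlgClosed K] (κ : Spec (CommRingCat.of K) ⟶ S)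
    [ConnectedSpace (Red.bc κ G).left] {M : Type} [AddCommGroup M] {U : Scheme.{u}} {g : U ⟶ S}
    (e : Grp.mk (Red.bc g H) ≅ Grp.mk (Red.DS U M)) (j : Spec (CommRingCat.of K) ⟶ U) (hj : j ≫ g = κ)
    {n : ℕ} (hn : ∀ X : Over S, (⊤ : Subgroup (X ⟶ G)).lowerCentralSeries n = ⊥) : CentAt u κ := by
  obtain ⟨wk, hwk⟩ := MultLift.exists_split_iso e j κ hj
  haveI := hwk
  haveI : IsMonHom (M := Red.bc κ H) (N := Red.bc κ G) ((Over.pullback κ).map u) := DiagRep.isMonHom_bc_map κ u
  let vk : sp K (DA K M) ⟶ Red.bc κ G := wk.hom ≫ (Over.pullback κ).map u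
  haveI : IsMonHom vk := inferInstanceAs (IsMonHom (wk.hom ≫ (Over.pullback κ).map u))
  haveI : LocallyOfFiniteType (Red.bc κ G).hom := inferInstanceAs (LocallyOfFiniteType (pullback.snd G.hom κ))
  let pk : Spec (CommRingCat.of K) := IsLocalRing.closedPoint K
  obtain ⟨V, hV, heV, -⟩ := exists_isAffineOpen_mem_and_subset (X := (Red.bc κ G).left)
    (x := (η[Red.bc κ G] : 𝟙_ (Over (Spec (CommRingCat.of K))) ⟶ Red.bc κ G).left pk) (U := ⊤) trivial
  have hη : Set.range (η[Red.bc κ G] : 𝟙_ (Over (Spec (CommRingCat.of K))) ⟶ Red.bc κ G).left ⊆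
      (V : Set (Red.bc κ G).left) := by
    rintro _ ⟨y, rfl⟩
    rw [show y = pk from @Subsingleton.elim (PrimeSpectrum K) _ y pk]
    exact heV
  have hcomm := comm_of_inf vk (infR_of_nilpotent vk V hV hη ⟨n, lcs_bc κ hn⟩)
  rw [centAt_bc_iff]
  intro X g h
  have h1 := congrArg (lift g (h ≫ wk.inv) ≫ ·) hcomm
  simpa [MonObj.comp_mul, vk] using h1

variable {k : Type u} [Field k] {G H : Over (Spec (CommRingCat.of k))} [GrpObj G] [GrpObj H]

/-- A homomorphism from a group of multiplicative type to a connected nilpotent group is central. -/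
theorem central_of_nilpotent [LocallyOfFiniteType G.hom] [ConnectedSpace G.left]
    (hnilp : ∃ n : ℕ, ∀ X : Over (Spec (CommRingCat.of k)), (⊤ : Subgroup (X ⟶ G)).lowerCentralSeries n = ⊥)
    (u : H ⟶ G) [IsMonHom u] (hH : SGA3x.IsMultTypeFT H) (X : Over (Spec (CommRingCat.of k))) (x : X ⟶ H)
    (g : X ⟶ G) : (x ≫ u) * g = g * (x ≫ u) := by
  obtain ⟨n, hn⟩ := hnilp
  obtain ⟨S', f, hflat, hsurj, -, hloc⟩ := hH
  haveI := hsurj
  obtain ⟨s', -⟩ := f.surjective (IsLocalRing.closedPoint k)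
  obtain ⟨U, hU, M, _, -, ⟨e⟩⟩ := hloc s'
  let F : Type u := (U : Scheme.{u}).residueField ⟨s', hU⟩
  let K : Type u := AlgebraicClosure F
  let j : Spec (CommRingCat.of K) ⟶ (U : Scheme.{u}) :=
    Spec.map (CommRingCat.ofHom (algebraMap F K)) ≫ (U : Scheme.{u}).fromSpecResidueField ⟨s', hU⟩
  let κ : Spec (CommRingCat.of K) ⟶ Spec (CommRingCat.of k) := j ≫ U.ι ≫ f
  haveI : GeometricallyConnected G.hom := HomogSep.gc_of_unit G
  haveI : Subsingleton ↥(Spec (CommRingCat.of K)) := inferInstanceAs (Subsingleton (PrimeSpectrum K))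
  haveI : Nonempty ↥(pullback G.hom κ) :=
    ⟨(η[Red.bc κ G] : 𝟙_ (Over (Spec (CommRingCat.of K))) ⟶ Red.bc κ G).left (IsLocalRing.closedPoint K)⟩
  haveI : ConnectedSpace (Red.bc κ G).left :=
    GeometricallyConnected.connectedSpace_of_subsingleton (f := pullback.snd G.hom κ)
  have h1 : CentAt u κ := centAt_geom u κ e j rfl hn
  haveI : Surjective κ := ⟨fun b => ⟨IsLocalRing.closedPoint K, @Subsingleton.elim (PrimeSpectrum k) _ _ _⟩⟩
  haveI : Flat κ := inferInstance
  have h2 : CentAt u (𝟙 (Spec (CommRingCat.of k))) :=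
    TrivLocus.triv_of_flat_surjective κ (by rw [Category.comp_id]; exact h1)
  exact (CentLocus.centAt_iff u _).1 h2 X X.hom (Category.comp_id _) g x

end Groth.Agent.MultNilp
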