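import Groth.Agent.CentLocusLib.Global

/-!
Diagonalisable subgroups of nilpotent groups commute with the first neighbourhood of the unit.
-/

set_option autoImplicit false
set_option backward.isDefEq.respectTransparency false

noncomputable section

universe u

open CategoryTheory CategoryTheory.Limits MonoidalCategory CartesianMonoidalCategory AlgebraicGeometry CoactBr
open scoped MonObj TensorProduct

namespace Groth.Agent.MultNilp

open Groth.Agent.FreeAct (DA bas bas_apply IsAct co pr pr_left pr_right)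
open Groth.Agent.CentLocus (InfR coord coord_bas_tmul sub_eq_sum exists_chart exists_nbhd)

attribute [local instance] CoactBr.braidedAlgSpecOf

variable {R : Type u} [CommRing R] {G : Over (Spec (CommRingCat.of R))} [GrpObj G]

section Add

variable {B : Type u} [CommRing B] [Algebra R B] (εB : B →ₐ[R] R) (j : sp R B ⟶ G) [Mono j]

theorem congr_one (hj1 : pt εB ≫ j = 1) {T : Type u} [CommRing T] [Algebra R T] (J : Ideal T) (β : B →ₐ[R] T)
    (h : ∀ b ∈ RingHom.ker εB, β b ∈ J) : pt (Ideal.Quotient.mkₐ R J) ≫ pt β ≫ j = 1 := by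
  have h1 : (Ideal.Quotient.mkₐ R J).comp β = (Algebra.ofId R _).comp εB := AlgHom.ext fun b => by
    have hb : b - algebraMap R B (εB b) ∈ RingHom.ker εB := by simp [RingHom.mem_ker]
    have h2 := h _ hb
    rw [← Ideal.Quotient.eq_zero_iff_mem, map_sub, map_sub, AlgHom.commutes, sub_eq_zero] at h2
    exact h2.trans (AlgHom.commutes (Ideal.Quotient.mkₐ R J) _)
  rw [← Category.assoc, ← pt_comp, h1, pt_comp, Category.assoc, hj1, MonObj.comp_one]

theorem mem_of_congr_one (hj1 : pt εB ≫ j = 1) {T : Type u} [CommRing T] [Algebra R T] (J : Ideal T)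
    (β : B →ₐ[R] T) (h : pt (Ideal.Quotient.mkₐ R J) ≫ pt β ≫ j = 1) : ∀ b ∈ RingHom.ker εB, β b ∈ J := by
  intro b hb
  have h1 : (Ideal.Quotient.mkₐ R J).comp β = (Algebra.ofId R _).comp εB := by
    apply pt_injective
    rw [← cancel_mono j, pt_comp, pt_comp, Category.assoc, Category.assoc, h, hj1, MonObj.comp_one]
  refine Ideal.Quotient.eq_zero_iff_mem.1 ((DFunLike.congr_fun h1 b).trans ?_)
  rw [AlgHom.comp_apply, RingHom.mem_ker.1 hb, map_zero]

theorem pt_id_comp {X : Over (Spec (CommRingCat.of R))} (f : sp R B ⟶ X) : pt (AlgHom.id R B) ≫ f = f := by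
  rw [CoactBr.pt_id, Category.id_comp]

/-- The law of the group is the addition on the first neighbourhood of the unit. -/
theorem mul_apply (hj1 : pt εB ≫ j = 1) (hnil : RingHom.ker εB ^ 2 = ⊥)
    (hfac : ∀ (T : Type u) [CommRing T] [Algebra R T] (J : Ideal T), J ^ 2 = ⊥ → ∀ x : sp R T ⟶ G,
      pt (Ideal.Quotient.mkₐ R J) ≫ x = 1 → ∃ β : B →ₐ[R] T, x = pt β ≫ j)
    {T : Type u} [CommRing T] [Algebra R T] (J : Ideal T) (hJ : J ^ 2 = ⊥) (β₁ β₂ θ : B →ₐ[R] T)
    (h1 : ∀ b ∈ RingHom.ker εB, β₁ b ∈ J) (h2 : ∀ b ∈ RingHom.ker εB, β₂ b ∈ J)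
    (h : (pt β₁ ≫ j) * (pt β₂ ≫ j) = pt θ ≫ j) {b : B} (hb : b ∈ RingHom.ker εB) : θ b = β₁ b + β₂ b := by
  let iL : B →ₐ[R] B ⊗[R] B := Algebra.TensorProduct.includeLeft
  let iR : B →ₐ[R] B ⊗[R] B := Algebra.TensorProduct.includeRight
  let mL : Ideal (B ⊗[R] B) := (RingHom.ker εB).map iL.toRingHom
  let mR : Ideal (B ⊗[R] B) := (RingHom.ker εB).map iR.toRingHom
  obtain ⟨Q, _, _, π, hπ, hπs⟩ : ∃ (Q : Type u) (_ : CommRing Q) (_ : Algebra R Q) (π : B ⊗[R] B →ₐ[R] Q),
      RingHom.ker π = mL * mR ∧ Function.Surjective π :=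
    ⟨(B ⊗[R] B) ⧸ (mL * mR), inferInstance, inferInstance, Ideal.Quotient.mkₐ R _, Ideal.mk_ker,
      Ideal.Quotient.mk_surjective⟩
  let JQ : Ideal Q := (mL ⊔ mR).map π.toRingHom
  have hπ0 : (mL * mR).map π.toRingHom = ⊥ := (Ideal.map_eq_bot_iff_le_ker _).2 hπ.ge
  have hJQ : JQ ^ 2 = ⊥ := by
    have hL : mL * mL = ⊥ := by
      rw [← pow_two, show mL ^ 2 = _ from (Ideal.map_pow _ _ _).symm, hnil, Ideal.map_bot]
    have hR : mR * mR = ⊥ := by
      rw [← pow_two, show mR ^ 2 = _ from (Ideal.map_pow _ _ _).symm, hnil, Ideal.map_bot]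
    rw [← Ideal.map_pow, pow_two, Ideal.sup_mul, Ideal.mul_sup, Ideal.mul_sup, hL, hR, mul_comm mR mL, bot_sup_eq,
      sup_bot_eq, sup_idem, hπ0]
  have hmL : ∀ c ∈ RingHom.ker εB, π.comp iL c ∈ JQ := fun c hc =>
    Ideal.mem_map_of_mem _ (Ideal.mem_sup_left (Ideal.mem_map_of_mem _ hc))
  have hmR : ∀ c ∈ RingHom.ker εB, π.comp iR c ∈ JQ := fun c hc =>
    Ideal.mem_map_of_mem _ (Ideal.mem_sup_right (Ideal.mem_map_of_mem _ hc))
  obtain ⟨θ₀, hθ₀⟩ := hfac Q JQ hJQ ((pt (π.comp iL) ≫ j) * (pt (π.comp iR) ≫ j)) (by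
    rw [MonObj.comp_mul, congr_one εB j hj1 JQ _ hmL, congr_one εB j hj1 JQ _ hmR, _root_.one_mul])
  -- maps out of the quotient
  have push : ∀ (C : Type u) [CommRing C] [Algebra R C] (a₁ a₂ : B →ₐ[R] C),
      (∀ c ∈ RingHom.ker εB, ∀ c' ∈ RingHom.ker εB, a₁ c * a₂ c' = 0) →
      ∃ qq : Q →ₐ[R] C, qq.comp π = Algebra.TensorProduct.lift a₁ a₂ (fun _ _ => Commute.all _ _) ∧
        pt (qq.comp θ₀) ≫ j = (pt a₁ ≫ j) * (pt a₂ ≫ j) := by
    intro C _ _ a₁ a₂ h0
    let l := Algebra.TensorProduct.lift a₁ a₂ (fun _ _ => Commute.all _ _)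
    have hl : RingHom.ker π.toRingHom ≤ RingHom.ker l.toRingHom := by
      refine hπ.le.trans ?_
      rw [← Ideal.map_eq_bot_iff_le_ker, Ideal.map_mul, eq_bot_iff, Ideal.map_map, Ideal.map_map, Ideal.mul_le]
      have e1 : l.toRingHom.comp iL.toRingHom = a₁.toRingHom := RingHom.ext fun c => by simp [l, iL]
      have e2 : l.toRingHom.comp iR.toRingHom = a₂.toRingHom := RingHom.ext fun c => by simp [l, iR]
      rw [e1, e2]
      intro r hr s hs
      induction hr using Submodule.span_induction with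
      | mem x hx =>
        obtain ⟨c, hc, rfl⟩ := hx
        induction hs using Submodule.span_induction with
        | mem y hy =>
          obtain ⟨c', hc', rfl⟩ := hy
          exact (Submodule.mem_bot C).2 (h0 c hc c' hc')
        | zero => rw [mul_zero]; exact zero_mem _
        | add y z _ _ hy hz => rw [mul_add]; exact add_mem hy hz
        | smul t y _ hy => rw [smul_eq_mul, mul_left_comm]; exact Ideal.mul_mem_left _ _ hy
      | zero => rw [zero_mul]; exact zero_mem _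
      | add x y _ _ hx hy => rw [add_mul]; exact add_mem hx hy
      | smul t x _ hx => rw [smul_eq_mul, mul_assoc]; exact Ideal.mul_mem_left _ _ hx
    let qq := AlgHom.liftOfSurjective π hπs l hl
    have hqq : qq.comp π = l := AlgHom.liftOfSurjective_comp _ _ _ _
    refine ⟨qq, hqq, ?_⟩
    rw [pt_comp, Category.assoc, ← hθ₀, MonObj.comp_mul, ← Category.assoc, ← Category.assoc, ← pt_comp, ← pt_comp,
      ← AlgHom.comp_assoc, ← AlgHom.comp_assoc, hqq]
    congr 3
    · exact AlgHom.ext fun c => by simp [l, iL]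
    · exact AlgHom.ext fun c => by simp [l, iR]
  let e₀ : B →ₐ[R] B := (Algebra.ofId R B).comp εB
  have hsq : ∀ c ∈ RingHom.ker εB, ∀ c' ∈ RingHom.ker εB, c * c' = 0 := fun c hc c' hc' => by
    have := Ideal.mul_mem_mul hc hc'
    rw [← pow_two, hnil] at this
    exact this
  have he₀ : ∀ c ∈ RingHom.ker εB, e₀ c = 0 := fun c hc => by simp [e₀, RingHom.mem_ker.1 hc]
  obtain ⟨φ₁, hφ₁, hφ₁'⟩ := push B (AlgHom.id R B) e₀ (fun c _ c' hc' => by rw [he₀ c' hc', mul_zero])
  obtain ⟨φ₂, hφ₂, hφ₂'⟩ := push B e₀ (AlgHom.id R B) (fun c hc c' _ => by rw [he₀ c hc, zero_mul])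
  have hone : pt e₀ ≫ j = 1 := by rw [pt_comp, Category.assoc, hj1, MonObj.comp_one]
  rw [hone, _root_.mul_one, pt_id_comp, ← pt_id_comp j, ← Category.assoc, cancel_mono, ← pt_comp] at hφ₁'
  rw [hone, _root_.one_mul, pt_id_comp, ← pt_id_comp j, ← Category.assoc, cancel_mono, ← pt_comp] at hφ₂'
  have hb1 : φ₁ (θ₀ b) = b := DFunLike.congr_fun (pt_injective hφ₁') b
  have hb2 : φ₂ (θ₀ b) = b := DFunLike.congr_fun (pt_injective hφ₂') b
  -- the decomposition
  have dec : ∀ q : Q, q = π (iL (φ₁ q)) + π (iR (φ₂ q)) - algebraMap R Q (εB (φ₁ q)) := by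
    intro q
    obtain ⟨z, rfl⟩ := hπs q
    rw [← AlgHom.comp_apply φ₁ π, ← AlgHom.comp_apply φ₂ π, hφ₁, hφ₂]
    induction z using TensorProduct.induction_on with
    | zero => simp
    | add x y hx hy =>
      simp only [map_add] at hx hy ⊢
      linear_combination hx + hy
    | tmul a c =>
      have h0 : π (iL (a - algebraMap R B (εB a)) * iR (c - algebraMap R B (εB c))) = 0 := by
        rw [← RingHom.mem_ker, hπ]
        exact Ideal.mul_mem_mul (Ideal.mem_map_of_mem _ (by simp [RingHom.mem_ker]))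
          (Ideal.mem_map_of_mem _ (by simp [RingHom.mem_ker]))
      have hac : π (a ⊗ₜ[R] c) = π (iL a) * π (iR c) := by
        rw [← map_mul]; congr 1; simp [iL, iR]
      simp only [map_mul, map_sub, AlgHom.commutes] at h0
      simp only [Algebra.TensorProduct.lift_tmul, e₀, AlgHom.comp_apply, AlgHom.id_apply, Algebra.ofId_apply,
        map_mul, AlgHom.commutes, Algebra.algebraMap_self, RingHom.id_apply, hac]
      linear_combination h0
  obtain ⟨qq, hqq, hqq'⟩ := push T β₁ β₂ (fun c hc c' hc' => by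
    have := Ideal.mul_mem_mul (h1 c hc) (h2 c' hc')
    rw [← pow_two, hJ] at this
    exact this)
  rw [h, cancel_mono] at hqq'
  rw [← pt_injective hqq', AlgHom.comp_apply, dec (θ₀ b), hb1, hb2, RingHom.mem_ker.1 hb, map_zero, sub_zero, map_add,
    ← AlgHom.comp_apply qq π, ← AlgHom.comp_apply qq π, hqq]
  simp [iL, iR]

end Add

/-- Composition with a morphism preserves the lower central series. -/
theorem comp_mem_lcs {X Y : Over (Spec (CommRingCat.of R))} (f : X ⟶ Y) (i : ℕ) {x : Y ⟶ G}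
    (hx : x ∈ (⊤ : Subgroup (Y ⟶ G)).lowerCentralSeries i) : f ≫ x ∈ (⊤ : Subgroup (X ⟶ G)).lowerCentralSeries i := by
  let φ : (Y ⟶ G) →* (X ⟶ G) := MonoidHom.mk' (fun y => f ≫ y) fun a b => by
    rw [MonObj.comp_mul]
  have h : ∀ i, ((⊤ : Subgroup (Y ⟶ G)).lowerCentralSeries i).map φ ≤
      (⊤ : Subgroup (X ⟶ G)).lowerCentralSeries i := by
    intro i
    induction i with
    | zero => exact le_top
    | succ i ih =>
      rw [Subgroup.lowerCentralSeries_succ, Subgroup.lowerCentralSeries_succ, Subgroup.map_commutator]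
      exact Subgroup.commutator_mono ih le_top
  exact h i ⟨x, hx, rfl⟩

section Weights

variable {M : Type} [AddCommGroup M] {B : Type u} [CommRing B] [Algebra R B] (εB : B →ₐ[R] R) (j : sp R B ⟶ G)
  [Mono j] (hj1 : pt εB ≫ j = 1) (hnil : RingHom.ker εB ^ 2 = ⊥)
  (hfac : ∀ (T : Type u) [CommRing T] [Algebra R T] (J : Ideal T), J ^ 2 = ⊥ → ∀ x : sp R T ⟶ G,
    pt (Ideal.Quotient.mkₐ R J) ≫ x = 1 → ∃ β : B →ₐ[R] T, x = pt β ≫ j)
  (v : sp R (DA R M) ⟶ G) {ρ : B →ₐ[R] DA R M ⊗[R] B} (hρ : IsAct ρ)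
  (hpt : ∀ (K : Type u) [CommRing K] [Algebra R K] (χ : DA R M →ₐ[R] K) (x : B →ₐ[R] K),
    (pt χ ≫ v) * (pt x ≫ j) * (pt χ ≫ v)⁻¹ = pt ((pr χ x).comp ρ) ≫ j)

theorem bas_one : bas R M 1 = (1 : DA R M) := by rw [bas_apply, ← MonoidAlgebra.one_def]

theorem pt_ofId (hj1 : pt εB ≫ j = 1) (T : Type u) [CommRing T] [Algebra R T] :
    pt ((Algebra.ofId R T).comp εB) ≫ j = 1 := by
  rw [pt_comp, Category.assoc, hj1, MonObj.comp_one]

include hj1 hρ hpt in
/-- The weight spaces of nontrivial weight lie in the ideal of the unit. -/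
theorem co_mem {m : Multiplicative M} (hm : m ≠ 1) (b : B) : co ρ m b ∈ RingHom.ker εB := by
  classical
  have h1 := hpt (DA R M) (AlgHom.id R _) ((Algebra.ofId R _).comp εB)
  rw [pt_ofId εB j hj1, _root_.mul_one, mul_inv_cancel, eq_comm, ← pt_ofId εB j hj1 (DA R M), cancel_mono] at h1
  have h2 := DFunLike.congr_fun (pt_injective h1) (co ρ m b)
  rw [AlgHom.comp_apply, hρ.rho_co] at h2
  simp only [pr, Algebra.TensorProduct.lift_tmul, AlgHom.id_apply, AlgHom.comp_apply, Algebra.ofId_apply] at h2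
  have h3 := congrArg ((bas R M).coord m) h2
  rw [← Algebra.commutes, ← Algebra.smul_def, map_smul, Algebra.algebraMap_eq_smul_one, map_smul, ← bas_one] at h3
  simpa [hm, Ne.symm hm] using h3

theorem exists_coeff (T : Type u) [CommRing T] [Algebra R T] :
    ∃ (K : Type u) (_ : CommRing K) (_ : Algebra R K) (iA : DA R M →ₐ[R] K) (iT : T →ₐ[R] K),
      ∀ m : Multiplicative M, m ≠ 1 → ∀ y : T, iA (bas R M m) * iT y = iT y → y = 0 := by
  classical
  refine ⟨DA R M ⊗[R] T, inferInstance, inferInstance, Algebra.TensorProduct.includeLeft,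
    Algebra.TensorProduct.includeRight, fun m hm y h => ?_⟩
  rw [Algebra.TensorProduct.includeLeft_apply, Algebra.TensorProduct.includeRight_apply,
    Algebra.TensorProduct.tmul_mul_tmul, _root_.mul_one, _root_.one_mul] at h
  have h4 := congrArg (coord R T M m) h
  rw [← bas_one, coord_bas_tmul, coord_bas_tmul, if_pos rfl, if_neg (Ne.symm hm)] at h4
  exact h4

include hj1 hnil hfac hρ hpt in
set_option maxHeartbeats 1000000 in
/-- Iterated commutators with the torus kill the weight spaces of nontrivial weight. -/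
theorem apply_co_eq_zero {n : ℕ}
    (hn : ∀ X : Over (Spec (CommRingCat.of R)), (⊤ : Subgroup (X ⟶ G)).lowerCentralSeries n = ⊥) :
    ∀ d i : ℕ, i + d = n → ∀ (T : Type u) [CommRing T] [Algebra R T] (J : Ideal T), J ^ 2 = ⊥ →
      ∀ β : B →ₐ[R] T, (∀ b ∈ RingHom.ker εB, β b ∈ J) →
      pt β ≫ j ∈ (⊤ : Subgroup (sp R T ⟶ G)).lowerCentralSeries i →
      ∀ (m : Multiplicative M), m ≠ 1 → ∀ b, β (co ρ m b) = 0 := by
  classical
  intro d
  induction d with
  | zero =>
    intro i hi T _ _ J hJ β hβ hx m hm b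
    rw [Nat.add_zero] at hi
    subst hi
    rw [hn, Subgroup.mem_bot, ← pt_ofId εB j hj1 T, cancel_mono] at hx
    rw [pt_injective hx, AlgHom.comp_apply, RingHom.mem_ker.1 (co_mem εB j hj1 v hρ hpt hm b), map_zero]
  | succ d ih =>
    intro i hi T _ _ J hJ β hβ hx m hm b
    obtain ⟨K, _, _, iA, iT, hK⟩ := exists_coeff (R := R) (M := M) T
    let J' : Ideal K := J.map iT.toRingHom
    have hJ' : J' ^ 2 = ⊥ := by rw [← Ideal.map_pow, hJ, Ideal.map_bot]
    let h : sp R K ⟶ G := pt iA ≫ v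
    let x' : sp R K ⟶ G := pt (iT.comp β) ≫ j
    have hβ' : ∀ c ∈ RingHom.ker εB, iT.comp β c ∈ J' := fun c hc => Ideal.mem_map_of_mem _ (hβ c hc)
    have hx1 : pt (Ideal.Quotient.mkₐ R J') ≫ x' = 1 := congr_one εB _ hj1 J' _ hβ'
    have hx' : x' ∈ (⊤ : Subgroup (sp R K ⟶ G)).lowerCentralSeries i := by
      show pt (iT.comp β) ≫ _ ∈ _
      rw [pt_comp, Category.assoc]
      exact comp_mem_lcs (pt iT) i hx
    let c := h * x' * h⁻¹ * x'⁻¹
    have hc : c ∈ (⊤ : Subgroup (sp R K ⟶ G)).lowerCentralSeries (i + 1) := by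
      rw [Subgroup.lowerCentralSeries_succ, Subgroup.commutator_comm]
      exact Subgroup.commutator_mem_commutator (Subgroup.mem_top h) hx'
    have hc1 : pt (Ideal.Quotient.mkₐ R J') ≫ c = 1 := by
      simp only [c, MonObj.comp_mul, GrpObj.comp_inv, hx1, _root_.mul_one, mul_inv_cancel, inv_one]
    obtain ⟨θ, hθ⟩ := hfac _ J' hJ' c hc1
    have hθJ : ∀ e ∈ RingHom.ker εB, θ e ∈ J' := mem_of_congr_one εB _ hj1 J' θ (hθ ▸ hc1)
    have hmul : (pt θ ≫ j) * (pt (iT.comp β) ≫ j) = pt ((pr iA (iT.comp β)).comp ρ) ≫ j := by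
      rw [← hθ, ← hpt]
      exact inv_mul_cancel_right _ _
    have hadd := mul_apply εB _ hj1 hnil hfac J' hJ' θ (iT.comp β) _ hθJ hβ' hmul (co_mem εB j hj1 v hρ hpt hm b)
    rw [ih (i + 1) (by omega) _ J' hJ' θ hθJ (hθ ▸ hc) m hm b, _root_.zero_add, AlgHom.comp_apply, hρ.rho_co] at hadd
    simp only [pr, Algebra.TensorProduct.lift_tmul, AlgHom.comp_apply] at hadd
    exact hK m hm _ hadd

include hj1 hnil hfac hρ hpt in
/-- All weights are trivial. -/
theorem rho_eq {n : ℕ}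
    (hn : ∀ X : Over (Spec (CommRingCat.of R)), (⊤ : Subgroup (X ⟶ G)).lowerCentralSeries n = ⊥) (b : B) :
    ρ b = 1 ⊗ₜ[R] b := by
  classical
  obtain ⟨F, hF⟩ := sub_eq_sum hρ b
  rw [← sub_eq_zero, hF]
  refine Finset.sum_eq_zero fun m _ => ?_
  by_cases hm : m = 1
  · subst hm
    rw [bas_one, sub_self, TensorProduct.zero_tmul]
  · rw [show co ρ m b = 0 from apply_co_eq_zero εB j hj1 hnil hfac v hρ hpt hn n 0 (Nat.zero_add n) B
      (RingHom.ker εB) hnil (AlgHom.id R B) (fun c hc => hc) (Subgroup.mem_top _) m hm b, TensorProduct.tmul_zero]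

end Weights

/-- In a nilpotent group a diagonalisable subgroup commutes with the first neighbourhood of the unit. -/
theorem infR_of_nilpotent {M : Type} [AddCommGroup M] [LocallyOfFiniteType G.hom] (v : sp R (DA R M) ⟶ G) [IsMonHom v]
    (V : G.left.Opens) (hV : IsAffineOpen V)
    (hη : Set.range (η[G] : 𝟙_ (Over (Spec (CommRingCat.of R))) ⟶ G).left ⊆ (V : Set G.left))
    (hnilp : ∃ n : ℕ, ∀ X : Over (Spec (CommRingCat.of R)), (⊤ : Subgroup (X ⟶ G)).lowerCentralSeries n = ⊥) :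
    InfR v 2 (RingHom.id R) := by
  obtain ⟨n, hn⟩ := hnilp
  obtain ⟨A, _, _, ε, jA, hft, -, hmono, hone, hfac⟩ := exists_chart V hV hη
  haveI := hft
  haveI := hmono
  obtain ⟨B, _, _, π, εB, ρ, -, -, -, hnil, hρ, hj1, hfacB, hmB, hpt⟩ := exists_nbhd v ε jA hone hfac 2 two_ne_zero
  haveI := hmB
  intro T _ _ g _ J hJ x hx χ
  obtain ⟨β, rfl⟩ := hfacB T J hJ x hx
  have h3 := hpt T χ β
  rw [show (pr χ β).comp ρ = β from AlgHom.ext fun b => by
    simp [pr, rho_eq εB _ hj1 hnil hfacB v hρ hpt hn b], mul_inv_eq_iff_eq_mul] at h3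
  exact h3

end Groth.Agent.MultNilp
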